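import Groth.Agent.FinPushConsLib.Split
import Groth.Agent.ConsDescLfpLib.Basic
import Groth.Agent.EtProperH0Lib.Main
import Groth.Agent.EtShLib.FinPushCons
import Groth.Agent.EtShLib.RestrPull
import Mathlib.AlgebraicGeometry.Morphisms.Etale
import Mathlib.AlgebraicGeometry.Morphisms.Finite

/-! Direct images of constructible sheaves along finite morphisms of finite presentation. -/

set_option autoImplicit false
set_option linter.style.haveILetI false
set_option backward.isDefEq.respectTransparency false
set_option backward.isDefEq.respectTransparency.types false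
set_option maxHeartbeats 1000000
set_option synthInstance.maxHeartbeats 400000
universe u

open CategoryTheory CategoryTheory.Limits AlgebraicGeometry Opposite TensorProduct

namespace Groth.Agent.FinPushConsLib

open Groth.Agent.EtShLib

/-- Constructibility descends along jointly surjective families of morphisms locally of finite presentation. -/
theorem isCons_of_family {Y : Scheme.{u}} {F : EtCoh.Ab Y} {ι : Type u} (T : ι → Scheme.{u}) (g : ∀ i, T i ⟶ Y)
    [∀ i, LocallyOfFinitePresentation (g i)] (hcov : ∀ y : Y, ∃ i, y ∈ Set.range (g i).base)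
    (h : ∀ i, IsCons (A := AddCommGrpCat.{u + 1}) FinP ((pullA (g i) AddCommGrpCat.{u + 1}).obj F)) :
    IsCons (A := AddCommGrpCat.{u + 1}) FinP F := by
  let b : (∐ T) ⟶ Y := Sigma.desc g
  haveI : Surjective b := ⟨fun y => by
    obtain ⟨i, z, hz⟩ := hcov y
    refine ⟨(Sigma.ι T i).base z, ?_⟩
    rw [← Scheme.Hom.comp_apply, colimit.ι_desc]
    exact hz⟩
  haveI : LocallyOfFinitePresentation b := IsZariskiLocalAtSource.sigmaDesc inferInstance
  refine isCons_of_pull_surjective_lfp b ?_
  refine IsCons.of_open_cover (fun i => (Sigma.ι T i).opensRange) ?_ fun i => ?_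
  · refine eq_top_iff.2 fun x _ => ?_
    obtain ⟨i, z, hz⟩ := (sigmaOpenCover T).exists_eq x
    exact TopologicalSpace.Opens.mem_iSup.2 ⟨i, z, hz⟩
  · let U := (Sigma.ι T i).opensRange
    let e : T i ≅ U.toScheme := (Sigma.ι T i).isoOpensRange
    have he : e.inv ≫ g i = U.ι ≫ b := by
      have h1 : e.inv ≫ Sigma.ι T i = U.ι := Scheme.Hom.isoOpensRange_inv_comp _
      rw [← h1, Category.assoc, colimit.ι_desc]
      rfl
    exact ((((h i).pull (f := e.inv)).of_hom ((pullCompA AddCommGrpCat.{u + 1} e.inv (g i)).hom.app F)).of_hom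
      ((pullCongrA AddCommGrpCat.{u + 1} he).hom.app F)).of_hom
      ((pullCompA AddCommGrpCat.{u + 1} U.ι b).inv.app F)

/-- The unit of a surjective closed immersion is an isomorphism. -/
theorem isIso_unit_surjective_closed {Z X : Scheme.{u}} (i : Z ⟶ X) [IsClosedImmersion i] [Surjective i]
    (F : EtCoh.Ab X) : IsIso ((EtCoh.pullPushAdj i).unit.app F) := by
  refine isIso_of_stalks (A := AddCommGrpCat.{u + 1}) _ fun Ω _ _ ξ => ?_
  let p : pullback i ξ ⟶ Spec (CommRingCat.of Ω) := pullback.snd i ξ
  haveI : Surjective p := inferInstance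
  haveI : IsClosedImmersion p := inferInstance
  haveI : IsReduced (Spec (CommRingCat.of Ω)) := inferInstance
  haveI : IsIso p := isIso_of_isClosedImmersion_of_surjective p
  have hζ : (inv p ≫ pullback.fst i ξ) ≫ i = ξ := by
    rw [Category.assoc, pullback.condition, IsIso.inv_hom_id_assoc]
  rw [← hζ]
  exact isIso_unit_stalk_closed i F _

/-- Direct images along a finite morphism of finite presentation preserve constructibility. -/
theorem isCons_push_finite {X Y : Scheme.{u}} (f : X ⟶ Y) [IsFinite f] [LocallyOfFinitePresentation f]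
    {F : EtCoh.Ab X} (hF : IsCons (A := AddCommGrpCat.{u + 1}) FinP F) :
    IsCons (A := AddCommGrpCat.{u + 1}) FinP ((EtCoh.push f).obj F) := by
  have key : ∀ y : Y, ∃ (T : Scheme.{u}) (g : T ⟶ Y), LocallyOfFinitePresentation g ∧ y ∈ Set.range g.base ∧
      IsCons (A := AddCommGrpCat.{u + 1}) FinP ((pullA g AddCommGrpCat.{u + 1}).obj ((EtCoh.push f).obj F)) := by
    intro y
    obtain ⟨V, hV, hyV, -⟩ := exists_isAffineOpen_mem_and_subset (x := y) (U := (⊤ : Y.Opens)) trivial
    let R := Γ(Y, V)
    let q : Spec R ⟶ Y := hV.fromSpec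
    let W := pullback f q
    let w : W ⟶ Spec R := pullback.snd f q
    haveI : IsFinite w := inferInstance
    haveI : LocallyOfFinitePresentation w := inferInstance
    haveI : IsAffine W := isAffine_of_isAffineHom w
    let S := Γ(W, ⊤)
    let φ : R ⟶ S := Spec.preimage (W.isoSpec.inv ≫ w)
    have hφ : Spec.map φ = W.isoSpec.inv ≫ w := Spec.map_preimage _
    letI : Algebra R S := φ.hom.toAlgebra
    haveI : IsFinite (Spec.map φ) := hφ ▸ inferInstance
    haveI : LocallyOfFinitePresentation (Spec.map φ) := hφ ▸ inferInstance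
    haveI : Module.Finite R S := (IsFinite.SpecMap_iff φ).mp ‹IsFinite (Spec.map φ)›
    haveI : Algebra.FinitePresentation R S :=
      (HasRingHomProperty.Spec_iff (P := @LocallyOfFinitePresentation)).mp
        ‹LocallyOfFinitePresentation (Spec.map φ)›
    obtain ⟨y', hy'⟩ : y ∈ Set.range q.base := by rw [hV.range_fromSpec]; exact hyV
    obtain ⟨P, p', hp'⟩ := exists_piece (R := R) (S := S) y'
    let ψ : R ⟶ CommRingCat.of P.T := CommRingCat.ofHom (algebraMap R P.T)
    haveI : LocallyOfFinitePresentation (Spec.map ψ) :=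
      (HasRingHomProperty.Spec_iff (P := @LocallyOfFinitePresentation)).mpr
        (RingHom.finitePresentation_algebraMap.mpr inferInstance)
    refine ⟨Spec (CommRingCat.of P.T), Spec.map ψ ≫ q, inferInstance, ⟨p', ?_⟩, ?_⟩
    · rw [Scheme.Hom.comp_apply]
      exact (congrArg q.base hp').trans hy'
    let B := P.T ⊗[R] S
    let f' : Spec (CommRingCat.of B) ⟶ Spec (CommRingCat.of P.T) :=
      Spec.map (CommRingCat.ofHom Algebra.TensorProduct.includeLeftRingHom)
    let r : Spec (CommRingCat.of B) ⟶ Spec S :=
      Spec.map (CommRingCat.ofHom (Algebra.TensorProduct.includeRight : S →ₐ[R] B).toRingHom)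
    have h1 : IsPullback r f' (Spec.map φ) (Spec.map ψ) := by
      refine (IsPullback.of_iso_pullback ⟨?_⟩ (pullbackSpecIso R P.T S).symm ?_ ?_).flip
      · rw [← Spec.map_comp, ← Spec.map_comp]
        congr 1
        ext x
        exact ((Algebra.TensorProduct.includeLeftRingHom : P.T →+* B).congr_arg rfl).trans
          ((Algebra.TensorProduct.includeLeft : P.T →ₐ[R] B).commutes x |>.trans
            ((Algebra.TensorProduct.includeRight : S →ₐ[R] B).commutes x).symm)
      · exact pullbackSpecIso_inv_fst R P.T S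
      · exact pullbackSpecIso_inv_snd R P.T S
    have h2 : IsPullback (W.isoSpec.inv ≫ pullback.fst f q) (Spec.map φ) f q :=
      (IsPullback.of_hasPullback f q).of_iso W.isoSpec (Iso.refl _) (Iso.refl _) (Iso.refl _) (by simp) (by simp [w, hφ])
        (by simp) (by simp)
    have hsq : IsPullback (r ≫ W.isoSpec.inv ≫ pullback.fst f q) f' f (Spec.map ψ ≫ q) := h1.paste_horiz h2
    let F' := (EtCoh.pull (r ≫ W.isoSpec.inv ≫ pullback.fst f q)).obj F
    haveI := EtProperH0Lib.isIso_baseChange0 hsq F
    let i : Spec (CommRingCat.of (Fin P.m → P.T)) ⟶ Spec (CommRingCat.of B) :=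
      Spec.map (CommRingCat.ofHom (evAll P.s).toRingHom)
    haveI : IsClosedImmersion i := IsClosedImmersion.spec_of_surjective _ (evAll_surjective P.disj)
    haveI : Surjective i := ⟨fun x => by
      show x ∈ Set.range (PrimeSpectrum.comap (evAll P.s).toRingHom)
      rw [range_comap_of_surjective _ _ (evAll_surjective P.disj), PrimeSpectrum.mem_zeroLocus]
      obtain ⟨j, hj⟩ := P.cover x
      exact fun b hb => hj (congrFun (show evAll P.s b = 0 from hb) j)⟩
    have hi : i ≫ f' = Spec.map (CommRingCat.ofHom (algebraMap P.T (Fin P.m → P.T))) := by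
      rw [← Spec.map_comp]
      congr 1
      ext x
      exact congrFun ((evAll P.s).commutes x) _
    haveI : IsFinite (i ≫ f') := by
      rw [hi, IsFinite.SpecMap_iff]
      exact RingHom.finite_algebraMap.mpr inferInstance
    haveI : AlgebraicGeometry.Etale (i ≫ f') := by
      rw [hi, HasRingHomProperty.Spec_iff (P := @AlgebraicGeometry.Etale)]
      exact RingHom.etale_algebraMap.mpr inferInstance
    haveI := isIso_unit_surjective_closed i F'
    have hpush : IsCons (A := AddCommGrpCat.{u + 1}) FinP ((EtCoh.push f').obj F') :=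
      (isCons_push_finite_etale (i ≫ f') ((hF.pull (f := r ≫ W.isoSpec.inv ≫ pullback.fst f q)).pull (f := i))).of_hom
        ((EtCoh.pushComp f' i).inv.app ((EtCoh.pull i).obj F') ≫
          inv ((EtCoh.push f').map ((EtCoh.pullPushAdj i).unit.app F')))
    exact hpush.of_hom (inv (EtCoh.baseChange0 f (Spec.map ψ ≫ q) f' _ hsq.w F))
  choose T g hg hy hcons using key
  exact isCons_of_family T g (fun y => ⟨y, hy y⟩) hcons

end Groth.Agent.FinPushConsLib
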