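import Groth.Agent.FinPushConsLib.QuasiFinite
import Groth.Agent.EtShLib.Locus
import Mathlib.RingTheory.Etale.Pi
import Mathlib.RingTheory.Etale.Basic
import Mathlib.RingTheory.Localization.Away.Basic
import Mathlib.AlgebraicGeometry.Morphisms.QuasiFinite
import Mathlib.AlgebraicGeometry.Morphisms.Etale
import Mathlib.AlgebraicGeometry.Morphisms.Finite
import Mathlib.AlgebraicGeometry.Morphisms.FinitePresentation

/-! A quasi-finite morphism of affine schemes becomes finite étale after a surjective base change, up to thickening. -/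

set_option autoImplicit false
set_option linter.style.haveILetI false
set_option maxHeartbeats 1000000
universe u

open TensorProduct PrimeSpectrum

namespace Groth.Agent.FinPushConsLib

variable (R : Type u) [CommRing R] (S : Type u) [CommRing S] [Algebra R S]

/-- Every point has a piece; finitely many pieces suffice. -/
theorem exists_finite_pieces [Algebra.FinitePresentation R S]
    (hqf : ∀ P : Ideal S, [P.IsPrime] → Algebra.WeaklyQuasiFiniteAt R P) :
    ∃ (n : ℕ) (P : Fin n → Piece R S),
      ∀ p : PrimeSpectrum R, ∃ i, p ∈ Set.range (PrimeSpectrum.comap (algebraMap R (P i).T)) := by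
  obtain ⟨d, hd⟩ := sectionBound_of_quasiFinite (R := R) (S := S) hqf
  choose P p' hp' using fun p : PrimeSpectrum R => exists_piece_of_bound hd p
  let C : PrimeSpectrum R → Set (PrimeSpectrum R) := fun p => Set.range (PrimeSpectrum.comap (algebraMap R (P p).T))
  have hC : ∀ p, Topology.IsConstructible (C p) := fun p =>
    PrimeSpectrum.isConstructible_range_comap (RingHom.finitePresentation_algebraMap.mpr (P p).fp)
  obtain ⟨t, ht⟩ := Groth.Agent.EtShLib.exists_finite_subcover_constructible C hC
    (Set.eq_univ_of_forall fun p => Set.mem_iUnion.2 ⟨p, p' p, hp' p⟩)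
  refine ⟨t.card, fun i => P (t.equivFin.symm i).1, fun p => ?_⟩
  obtain ⟨q, hq, hpq⟩ := Set.mem_iUnion₂.1 (ht.ge (Set.mem_univ p))
  exact ⟨t.equivFin ⟨q, hq⟩, (congrArg (fun z : {x // x ∈ t} => C z.1) (t.equivFin.symm_apply_apply ⟨q, hq⟩)).ge hpq⟩

variable {R S}

/-- The base change along a finite product of pieces. -/
theorem exists_split [Algebra.FinitePresentation R S]
    (hqf : ∀ P : Ideal S, [P.IsPrime] → Algebra.WeaklyQuasiFiniteAt R P) :
    ∃ (T : Type u) (_ : CommRing T) (_ : Algebra R T) (C : Type u) (_ : CommRing C) (_ : Algebra T C)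
      (e : T ⊗[R] S →ₐ[T] C), Function.Surjective (PrimeSpectrum.comap (algebraMap R T)) ∧
      Function.Surjective e ∧ Function.Surjective (PrimeSpectrum.comap e.toRingHom) ∧
      Module.Finite T C ∧ Algebra.Etale T C := by
  classical
  obtain ⟨n, P, hP⟩ := exists_finite_pieces R S hqf
  let T := ∀ i, (P i).T
  letI algι : ∀ s : (Σ i, Fin (P i).m), Algebra T (P s.1).T := fun s => (Pi.evalRingHom _ s.1).toAlgebra
  haveI towι : ∀ s : (Σ i, Fin (P i).m), IsScalarTower R T (P s.1).T := fun s =>
    IsScalarTower.of_algebraMap_eq fun r => rfl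
  let C := ∀ s : (Σ i, Fin (P i).m), (P s.1).T
  let π : ∀ i, T ⊗[R] S →ₐ[R] (P i).T ⊗[R] S := fun i =>
    Algebra.TensorProduct.map (Pi.evalAlgHom R _ i) (AlgHom.id R S)
  let E : ∀ s : (Σ i, Fin (P i).m), T ⊗[R] S →ₐ[T] (P s.1).T := fun s =>
    Algebra.TensorProduct.lift (Algebra.ofId T (P s.1).T) ((P s.1).s s.2) (fun _ _ => Commute.all _ _)
  have hE : ∀ s b, E s b = ev ((P s.1).s s.2) (π s.1 b) := by
    intro s b
    induction b using TensorProduct.induction_on with
    | zero => simp
    | add a b ha hb => simp [ha, hb]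
    | tmul t x =>
      simp only [E, π, Algebra.TensorProduct.lift_tmul, Algebra.TensorProduct.map_tmul, ev_tmul,
        Pi.evalAlgHom_apply, AlgHom.coe_id, id_eq]
      rfl
  let σ : ∀ i, (P i).T ⊗[R] S →ₗ[R] T ⊗[R] S := fun i =>
    LinearMap.rTensor S (LinearMap.single R (fun j => (P j).T) i)
  have hπσ : ∀ i b, π i (σ i b) = b := by
    intro i b
    induction b using TensorProduct.induction_on with
    | zero => simp
    | add a b ha hb => simp [ha, hb]
    | tmul t x =>
      simp only [π, σ, LinearMap.rTensor_tmul, Algebra.TensorProduct.map_tmul]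
      exact congrArg (fun a => a ⊗ₜ[R] x) (Pi.single_eq_same (M := fun j => (P j).T) i t)
  let ee : Fin n → T ⊗[R] S := fun i => (Pi.single i 1 : T) ⊗ₜ[R] (1 : S)
  have hσπ : ∀ i b, σ i (π i b) = ee i * b := by
    intro i b
    induction b using TensorProduct.induction_on with
    | zero => simp
    | add a b ha hb => simp [ha, hb, mul_add]
    | tmul t x =>
      simp only [π, σ, ee, Algebra.TensorProduct.map_tmul, LinearMap.rTensor_tmul, Algebra.TensorProduct.tmul_mul_tmul,
        one_mul, AlgHom.coe_id, id_eq, Pi.evalAlgHom_apply, LinearMap.coe_single]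
      congr 1
      ext j
      rcases eq_or_ne j i with rfl | h
      · show (Pi.single j (t j) : T) j = (Pi.single j 1 : T) j * t j
        rw [Pi.single_eq_same, Pi.single_eq_same, one_mul]
      · show (Pi.single i (t i) : T) j = (Pi.single i 1 : T) j * t j
        rw [Pi.single_eq_of_ne h, Pi.single_eq_of_ne h, zero_mul]
  have hsum : ∑ i, ee i = 1 := by
    rw [← TensorProduct.sum_tmul]
    congr 1
    exact Finset.univ_sum_single (fun i => (1 : (P i).T))
  have hπee : ∀ i j, i ≠ j → π i (ee j) = 0 := fun i j h => by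
    simp only [π, ee, Algebra.TensorProduct.map_tmul]
    have h0 : (Pi.single j 1 : T) i = 0 := Pi.single_eq_of_ne h _
    exact (congrArg (fun a => a ⊗ₜ[R] (1 : S)) h0).trans (TensorProduct.zero_tmul _ _)
  refine ⟨T, inferInstance, inferInstance, C, inferInstance, inferInstance, Pi.algHom T _ E, ?_, ?_, ?_, ?_, ?_⟩
  · intro p
    obtain ⟨i, r, hr⟩ := hP p
    refine ⟨PrimeSpectrum.comap (Pi.evalRingHom (fun i => (P i).T) i) r, ?_⟩
    rw [← hr, ← PrimeSpectrum.comap_comp_apply]
    rfl
  · intro y
    have : ∀ i, ∃ b : (P i).T ⊗[R] S, ∀ j, ev ((P i).s j) b = y ⟨i, j⟩ := fun i => by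
      obtain ⟨b, hb⟩ := evAll_surjective (P i).disj (fun j => y ⟨i, j⟩)
      exact ⟨b, fun j => congrFun hb j⟩
    choose b hb using this
    refine ⟨∑ i, σ i (b i), funext fun s => ?_⟩
    show E s (∑ i, σ i (b i)) = y s
    rw [hE, map_sum, map_sum, Finset.sum_eq_single s.1]
    · rw [hπσ, hb]
    · intro i _ hi
      have h1 : σ i (b i) = ee i * σ i (b i) := by rw [← hσπ, hπσ]
      rw [h1, map_mul, hπee s.1 i (Ne.symm hi), zero_mul, map_zero]
    · simp
  · intro q
    obtain ⟨i, hi⟩ : ∃ i, ee i ∉ q.asIdeal := by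
      by_contra h
      push Not at h
      exact q.isPrime.ne_top ((Ideal.eq_top_iff_one _).mpr (hsum ▸ Ideal.sum_mem _ fun i _ => h i))
    have hker : RingHom.ker (π i) ≤ q.asIdeal := fun b hb => by
      have h1 : ee i * b = 0 := by rw [← hσπ, (show π i b = 0 from hb), map_zero]
      exact (q.isPrime.mem_or_mem (h1 ▸ q.asIdeal.zero_mem)).resolve_left hi
    have hsur : Function.Surjective (π i) := fun b => ⟨σ i b, hπσ i b⟩
    obtain ⟨qi, hqi⟩ : q ∈ Set.range (PrimeSpectrum.comap (π i).toRingHom) := by
      rw [range_comap_of_surjective _ _ hsur, PrimeSpectrum.mem_zeroLocus]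
      exact hker
    obtain ⟨j, hj⟩ := (P i).cover qi
    have hkerE : RingHom.ker (E ⟨i, j⟩) ≤ q.asIdeal := fun b hb => by
      rw [← hqi]
      exact hj (show ev ((P i).s j) (π i b) = 0 by rw [← hE ⟨i, j⟩]; exact hb)
    have hsurE : Function.Surjective (E ⟨i, j⟩) := fun t => by
      obtain ⟨b, hb⟩ := ev_surjective ((P i).s j) t
      exact ⟨σ i b, by rw [hE, hπσ, hb]⟩
    obtain ⟨r, hr⟩ : q ∈ Set.range (PrimeSpectrum.comap (E ⟨i, j⟩).toRingHom) := by
      rw [range_comap_of_surjective _ _ hsurE, PrimeSpectrum.mem_zeroLocus]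
      exact hkerE
    refine ⟨PrimeSpectrum.comap (Pi.evalRingHom (fun s : (Σ i, Fin (P i).m) => (P s.1).T) ⟨i, j⟩) r, ?_⟩
    rw [← PrimeSpectrum.comap_comp_apply]
    exact hr
  · haveI : ∀ s : (Σ i, Fin (P i).m), Module.Finite T (P s.1).T := fun s =>
      Module.Finite.of_surjective (Algebra.linearMap T (P s.1).T) fun t => ⟨Pi.single s.1 t, Pi.single_eq_same _ _⟩
    exact Module.Finite.pi
  · haveI : ∀ s : (Σ i, Fin (P i).m), Algebra.Etale T (P s.1).T := fun s => by
      have hidem : IsIdempotentElem (Pi.single s.1 1 : T) := by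
        show _ * _ = _
        rw [← Pi.single_mul, one_mul]
      have hsurj : Function.Surjective (algebraMap T (P s.1).T) := fun t => ⟨Pi.single s.1 t, Pi.single_eq_same _ _⟩
      have hk : RingHom.ker (algebraMap T (P s.1).T) = Ideal.span {1 - (Pi.single s.1 1 : T)} := by
        apply le_antisymm
        · intro x hx
          rw [Ideal.mem_span_singleton]
          refine ⟨x, ?_⟩
          funext j
          rcases eq_or_ne j s.1 with rfl | h
          · show x s.1 = ((1 : T) s.1 - (Pi.single s.1 1 : T) s.1) * x s.1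
            rw [(show x s.1 = 0 from hx), mul_zero]
          · show x j = ((1 : T) j - (Pi.single s.1 1 : T) j) * x j
            rw [Pi.single_eq_of_ne h, Pi.one_apply, sub_zero, one_mul]
        · rw [Ideal.span_singleton_le_iff_mem]
          show (1 - (Pi.single s.1 1 : T)) s.1 = 0
          simp
      haveI := IsLocalization.away_of_isIdempotentElem hidem hk hsurj
      exact Algebra.Etale.of_isLocalizationAway (Pi.single s.1 1 : T)
    infer_instance

end Groth.Agent.FinPushConsLib
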