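import Groth.Agent.FinPushConsLib.Split
import Mathlib.RingTheory.ZariskisMainTheorem
import Mathlib.RingTheory.Etale.Pi

/-! Quasi-finite algebras become, up to nilpotents, finite étale after a surjective base change. -/

set_option autoImplicit false
set_option linter.style.haveILetI false
set_option maxHeartbeats 1000000
universe u

open TensorProduct PrimeSpectrum

namespace Groth.Agent.FinPushConsLib

variable {R : Type u} [CommRing R] {S : Type u} [CommRing S] [Algebra R S]

theorem sectionBound_of_quasiFinite [Algebra.FiniteType R S]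
    (hqf : ∀ P : Ideal S, [P.IsPrime] → Algebra.WeaklyQuasiFiniteAt R P) : ∃ d, SectionBound R S d := by
  classical
  have hloc : ∀ P : PrimeSpectrum S, ∃ S' : Subalgebra R S, S'.toSubmodule.FG ∧ ∃ r ∈ S', r ∉ P.asIdeal ∧
      ∀ x : S, ∃ n : ℕ, r ^ n * x ∈ S' := fun P => by
    haveI := hqf P.asIdeal
    obtain ⟨S', hS', r, hr, hb⟩ :=
      Algebra.QuasiFiniteAt.exists_fg_and_exists_notMem_and_awayMap_bijective (R := R) P.asIdeal
    refine ⟨S', hS', r.1, r.2, hr, fun x => ?_⟩
    obtain ⟨y, hy⟩ := hb.2 (algebraMap S _ x)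
    obtain ⟨n, a, ha⟩ := IsLocalization.Away.surj r y
    have h1 := congrArg (Localization.awayMap S'.val.toRingHom r) ha
    simp only [map_mul, map_pow, Localization.awayMap, IsLocalization.Away.map, IsLocalization.map_eq] at h1
    change Localization.awayMap S'.val.toRingHom r y * _ = _ at h1
    rw [hy, ← map_pow, ← map_mul] at h1
    obtain ⟨⟨_, l, rfl⟩, hl⟩ := (IsLocalization.eq_iff_exists (Submonoid.powers (S'.val.toRingHom r)) _).mp h1
    refine ⟨l + n, ?_⟩
    have h2 : r.1 ^ (l + n) * x = r.1 ^ l * a.1 := by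
      rw [pow_add, mul_assoc, mul_comm (r.1 ^ n) x]
      exact hl
    rw [h2]
    exact mul_mem (pow_mem r.2 l) a.2
  choose S' hfg r hrS hrP hr using hloc
  let D : PrimeSpectrum S → Set (PrimeSpectrum S) := fun P => (basicOpen (r P) : Set (PrimeSpectrum S))
  obtain ⟨t, ht⟩ := isCompact_univ.elim_finite_subcover D
    (fun P => (basicOpen (r P)).2) (fun P _ => Set.mem_iUnion.2 ⟨P, hrP P⟩)
  choose gens hgens using fun P => hfg P
  let A0 : Subalgebra R S := Algebra.adjoin R (↑(t.biUnion gens) : Set S)
  have hS0 : A0.toSubmodule.FG := by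
    refine fg_adjoin_of_finite (Finset.finite_toSet _) fun x hx => ?_
    obtain ⟨P, -, hxP⟩ := Finset.mem_biUnion.mp (Finset.mem_coe.mp hx)
    exact IsIntegral.of_mem_of_fg (S' P) (hfg P) x (hgens P ▸ Submodule.subset_span hxP :)
  have hle : ∀ P ∈ t, ∀ x ∈ S' P, x ∈ A0 := fun P hP x hx => by
    have hx' : x ∈ Submodule.span R (gens P : Set S) := by rw [hgens P]; exact hx
    exact (Submodule.span_le (p := A0.toSubmodule)).mpr
      (fun y hy => Algebra.subset_adjoin (Finset.mem_coe.mpr (Finset.mem_biUnion.mpr ⟨P, hP, hy⟩))) hx'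
  let S0 : Submodule R S := A0.toSubmodule
  obtain ⟨d, v, hv⟩ := Submodule.fg_iff_exists_fin_generating_family.mp hS0
  let g : (Fin d → R) →ₗ[R] S := Fintype.linearCombination R v
  have hg : LinearMap.range g = S0 := by rw [Fintype.range_linearCombination]; exact hv
  refine ⟨d, fun T _ _ _ m s hs => ?_⟩
  let G : (Fin d → T) →ₗ[T] (Fin m → T) :=
    Fintype.linearCombination T fun i j => s j (g (Pi.single i 1))
  have hmem : ∀ x ∈ S0, (fun j => s j x) ∈ LinearMap.range G := fun x hx => by
    rw [← hg] at hx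
    obtain ⟨c, rfl⟩ := hx
    refine ⟨fun i => algebraMap R T (c i), funext fun j => ?_⟩
    simp only [G, Fintype.linearCombination_apply]
    conv_rhs => rw [pi_eq_sum_univ c, map_sum, map_sum]
    rw [Finset.sum_apply]
    refine Finset.sum_congr rfl fun i _ => ?_
    rw [map_smul, map_smul, Pi.smul_apply, smul_eq_mul, Algebra.smul_def]
    congr 3
    ext l
    simp [Pi.single_apply, eq_comm]
  obtain ⟨p⟩ := (inferInstance : Nonempty (PrimeSpectrum T))
  let K := p.asIdeal.ResidueField
  let σ : Fin m → S →ₐ[R] K := fun j => (IsScalarTower.toAlgHom R T K).comp (s j)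
  let L : (Fin d → K) →ₗ[K] (Fin m → K) :=
    Fintype.linearCombination K fun i j => σ j (g (Pi.single i 1))
  have hLmem : ∀ x ∈ S0, (fun j => σ j x) ∈ LinearMap.range L := fun x hx => by
    obtain ⟨c, hc⟩ := hmem x hx
    refine ⟨fun i => algebraMap T K (c i), funext fun j => ?_⟩
    have := congrArg (algebraMap T K) (congrFun hc j)
    simpa [L, G, σ, Fintype.linearCombination_apply, map_sum, Algebra.smul_def] using this
  -- the sections stay distinct on `S0`
  have hdist : ∀ i j, i ≠ j → ∃ x ∈ S0, σ i x ≠ σ j x := by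
    intro i j hij
    by_contra hne
    push Not at hne
    obtain ⟨P, hP, hPr⟩ := Set.mem_iUnion₂.1
      (ht (Set.mem_univ (⟨RingHom.ker (σ i), RingHom.ker_isPrime _⟩ : PrimeSpectrum S)))
    have hsub : ∀ x ∈ S' P, σ i x = σ j x := fun x hx =>
      hne x (hle P hP x hx)
    have hri : σ i (r P) ≠ 0 := hPr
    have heq : ∀ x, σ i x = σ j x := fun x => by
      obtain ⟨n, hn⟩ := hr P x
      have := hsub _ hn
      rw [map_mul, map_mul, map_pow, map_pow, ← hsub _ (hrS P)] at this
      exact mul_left_cancel₀ (pow_ne_zero n hri) this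
    apply p.isPrime.ne_top
    rw [eq_top_iff, ← hs i j hij, Ideal.span_le]
    rintro _ ⟨x, rfl⟩
    rw [SetLike.mem_coe, ← Ideal.algebraMap_residueField_eq_zero, map_sub, sub_eq_zero]
    exact heq x
  -- Dedekind: distinct characters are independent
  let χ : Fin m → (A0 →* K) := fun j => ((σ j).comp A0.val).toRingHom.toMonoidHom
  have hχ : Function.Injective χ := fun i j hij => by
    by_contra hne
    obtain ⟨x, hx, hxne⟩ := hdist i j hne
    exact hxne (DFunLike.congr_fun hij ⟨x, hx⟩)
  have hLI : LinearIndependent K fun j => (χ j : A0 → K) := (linearIndependent_monoidHom A0 K).comp χ hχ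
  have htop : LinearMap.range L = ⊤ := by
    by_contra hne
    obtain ⟨φ, hφ, hφ0⟩ := Submodule.exists_le_ker_of_lt_top (LinearMap.range L) (lt_top_iff_ne_top.mpr hne)
    apply hφ
    have hc := Fintype.linearIndependent_iff.mp hLI (fun j => φ (Pi.single j 1)) (funext fun x => by
      have hx := LinearMap.mem_ker.mp (hφ0 (hLmem x.1 x.2))
      rw [pi_eq_sum_univ (fun j => σ j x.1), map_sum] at hx
      simp only [map_smul, smul_eq_mul] at hx
      rw [Finset.sum_apply, Pi.zero_apply, ← hx]
      refine Finset.sum_congr rfl fun j _ => ?_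
      have e : (fun l => if j = l then (1 : K) else 0) = Pi.single j 1 := by
        ext l
        simp [Pi.single_apply, eq_comm]
      rw [Pi.smul_apply, smul_eq_mul, mul_comm, e]
      rfl)
    exact LinearMap.pi_ext fun j c => by
      rw [show (Pi.single j c : Fin m → K) = c • Pi.single j 1 by rw [← Pi.single_smul, smul_eq_mul, mul_one],
        map_smul, hc j, smul_zero, LinearMap.zero_apply]
  have := LinearMap.finrank_range_le L
  rw [htop, finrank_top, Module.finrank_fin_fun, Module.finrank_fin_fun] at this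
  exact this

end Groth.Agent.FinPushConsLib
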