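import Groth.Agent.FinPushConsLib.Global
import Mathlib.AlgebraicGeometry.Pullbacks

/-! A quasi-finite morphism of affine schemes is finite étale up to thickening after a surjective base change. -/

set_option autoImplicit false
set_option linter.style.haveILetI false
set_option maxHeartbeats 1000000
universe u

open CategoryTheory CategoryTheory.Limits AlgebraicGeometry TensorProduct

namespace Groth.Agent.FinPushConsLib

theorem exists_thickening {Y X : Scheme.{u}} [IsAffine X] [IsAffine Y] (f : Y ⟶ X)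
    [LocallyQuasiFinite f] [LocallyOfFinitePresentation f] :
    ∃ (X' : Scheme.{u}) (_ : IsAffine X') (a : X' ⟶ X) (_ : Surjective a) (Z' : Scheme.{u})
      (c : Z' ⟶ pullback a f) (_ : IsClosedImmersion c) (_ : Surjective c),
      IsFinite (c ≫ pullback.fst a f) ∧ AlgebraicGeometry.Etale (c ≫ pullback.fst a f) := by
  let R := Γ(X, ⊤)
  let S := Γ(Y, ⊤)
  let φ : R ⟶ S := f.appTop
  have hφ : Spec.map φ = Y.isoSpec.inv ≫ f ≫ X.isoSpec.hom := by
    rw [Iso.eq_inv_comp]
    exact (Scheme.isoSpec_hom_naturality f)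
  letI : Algebra R S := φ.hom.toAlgebra
  haveI : LocallyQuasiFinite (Spec.map φ) := hφ ▸ inferInstance
  haveI : LocallyOfFinitePresentation (Spec.map φ) := hφ ▸ inferInstance
  haveI : Algebra.FinitePresentation R S :=
    (HasRingHomProperty.Spec_iff (P := @LocallyOfFinitePresentation)).mp
      ‹LocallyOfFinitePresentation (Spec.map φ)›
  haveI : Algebra.QuasiFinite R S :=
    (HasRingHomProperty.Spec_iff (P := @LocallyQuasiFinite)).mp ‹LocallyQuasiFinite (Spec.map φ)›
  obtain ⟨T, _, _, C, _, _, e, hT, he, hcov, hfin, het⟩ :=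
    exists_split (R := R) (S := S) (fun P _ => inferInstance)
  let ψ : R ⟶ CommRingCat.of T := CommRingCat.ofHom (algebraMap R T)
  let a : Spec (CommRingCat.of T) ⟶ X := Spec.map ψ ≫ X.isoSpec.inv
  let L : Spec (CommRingCat.of (T ⊗[R] S)) ⟶ Spec (CommRingCat.of T) :=
    Spec.map (CommRingCat.ofHom Algebra.TensorProduct.includeLeftRingHom)
  let Rr : Spec (CommRingCat.of (T ⊗[R] S)) ⟶ Spec S :=
    Spec.map (CommRingCat.ofHom (Algebra.TensorProduct.includeRight : S →ₐ[R] T ⊗[R] S).toRingHom)
  have h1 : IsPullback L Rr (Spec.map ψ) (Spec.map φ) := by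
    refine IsPullback.of_iso_pullback ⟨?_⟩ (pullbackSpecIso R T S).symm ?_ ?_
    · rw [← Spec.map_comp, ← Spec.map_comp]
      congr 1
      ext x
      exact ((Algebra.TensorProduct.includeLeft : T →ₐ[R] T ⊗[R] S).commutes x).trans
        ((Algebra.TensorProduct.includeRight : S →ₐ[R] T ⊗[R] S).commutes x).symm
    · exact pullbackSpecIso_inv_fst R T S
    · exact pullbackSpecIso_inv_snd R T S
  have h2 : IsPullback L (Rr ≫ Y.isoSpec.inv) a f :=
    h1.of_iso (Iso.refl _) (Iso.refl _) Y.isoSpec.symm X.isoSpec.symm (by simp) (by simp) (by simp [a]) (by simp [hφ])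
  let i : Spec (CommRingCat.of C) ⟶ Spec (CommRingCat.of (T ⊗[R] S)) := Spec.map (CommRingCat.ofHom e.toRingHom)
  haveI : IsClosedImmersion i := IsClosedImmersion.spec_of_surjective _ he
  haveI : Surjective i := ⟨hcov⟩
  haveI : Surjective (Spec.map ψ) := ⟨hT⟩
  let c : Spec (CommRingCat.of C) ⟶ pullback a f := i ≫ h2.isoPullback.hom
  have hc : c ≫ pullback.fst a f = Spec.map (CommRingCat.ofHom (algebraMap T C)) := by
    rw [Category.assoc, h2.isoPullback_hom_fst, ← Spec.map_comp]
    congr 1
    ext x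
    exact e.commutes x
  refine ⟨Spec (CommRingCat.of T), inferInstance, a, inferInstance, Spec (CommRingCat.of C), c, inferInstance,
    inferInstance, ?_, ?_⟩
  · rw [hc, IsFinite.SpecMap_iff]
    exact RingHom.finite_algebraMap.mpr hfin
  · rw [hc, HasRingHomProperty.Spec_iff (P := @AlgebraicGeometry.Etale)]
    exact RingHom.etale_algebraMap.mpr het

end Groth.Agent.FinPushConsLib
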