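import Mathlib.RingTheory.Spectrum.Prime.Chevalley
import Mathlib.RingTheory.Spectrum.Prime.ConstructibleSet
import Mathlib.RingTheory.FinitePresentation
import Mathlib.RingTheory.TensorProduct.Finite
import Mathlib.RingTheory.Ideal.Quotient.Operations
import Mathlib.RingTheory.Finiteness.Cardinality
import Mathlib.RingTheory.Localization.Away.AdjoinRoot
import Mathlib.RingTheory.Spectrum.Prime.RingHom
import Mathlib.RingTheory.Etale.Pi

/-! Pieces over which a finite algebra has geometrically only disjoint sections. -/

set_option autoImplicit false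
set_option linter.style.haveILetI false
set_option maxHeartbeats 1000000
universe u

open TensorProduct PrimeSpectrum

namespace Groth.Agent.FinPushConsLib

variable {R : Type u} [CommRing R] {S : Type u} [CommRing S] [Algebra R S]

/-- The evaluation of `T ⊗ S` at a section. -/
noncomputable def ev {T : Type u} [CommRing T] [Algebra R T] (s : S →ₐ[R] T) : T ⊗[R] S →ₐ[T] T :=
  Algebra.TensorProduct.lift (AlgHom.id T T) s (fun _ _ => Commute.all _ _)

@[simp] theorem ev_tmul {T : Type u} [CommRing T] [Algebra R T] (s : S →ₐ[R] T) (t : T) (x : S) :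
    ev s (t ⊗ₜ x) = t * s x := by simp [ev]

theorem ev_surjective {T : Type u} [CommRing T] [Algebra R T] (s : S →ₐ[R] T) : Function.Surjective (ev s) :=
  fun t => ⟨t ⊗ₜ 1, by simp⟩

/-- Sections whose loci are disjoint. -/
def IsDisj {T : Type u} [CommRing T] [Algebra R T] {m : ℕ} (s : Fin m → S →ₐ[R] T) : Prop :=
  ∀ i j, i ≠ j → Ideal.span (Set.range fun x => s i x - s j x) = ⊤

/-- Sections covering the spectrum of `T ⊗ S`. -/
def IsCover {T : Type u} [CommRing T] [Algebra R T] {m : ℕ} (s : Fin m → S →ₐ[R] T) : Prop :=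
  ∀ q : PrimeSpectrum (T ⊗[R] S), ∃ i, RingHom.ker (ev (s i)) ≤ q.asIdeal

variable (R S) in
/-- A finitely presented piece with disjoint covering sections. -/
structure Piece where
  T : Type u
  [ring : CommRing T]
  [alg : Algebra R T]
  [fp : Algebra.FinitePresentation R T]
  m : ℕ
  s : Fin m → S →ₐ[R] T
  disj : IsDisj s
  cover : IsCover s

attribute [instance] Piece.ring Piece.alg Piece.fp

/-- The map on sections along an algebra map. -/
theorem IsDisj.map {T T' : Type u} [CommRing T] [Algebra R T] [CommRing T'] [Algebra R T'] {m : ℕ}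
    {s : Fin m → S →ₐ[R] T} (h : IsDisj s) (φ : T →ₐ[R] T') : IsDisj fun i => φ.comp (s i) := by
  intro i j hij
  have := congrArg (Ideal.map φ) (h i j hij)
  rw [Ideal.map_span, Ideal.map_top, ← Set.range_comp] at this
  rw [← this]
  congr 2
  ext x
  simp

theorem ev_comp {T T' : Type u} [CommRing T] [Algebra R T] [CommRing T'] [Algebra R T'] (s : S →ₐ[R] T)
    (φ : T →ₐ[R] T') (b : T ⊗[R] S) :
    ev (φ.comp s) (Algebra.TensorProduct.map φ (AlgHom.id R S) b) = φ (ev s b) := by
  induction b using TensorProduct.induction_on with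
  | zero => simp
  | add a b ha hb => simp [ha, hb]
  | tmul t x => simp

theorem sub_mem_span {T : Type u} [CommRing T] [Algebra R T] (s : S →ₐ[R] T) (b : T ⊗[R] S) :
    b - ev s b ⊗ₜ[R] (1 : S) ∈ Ideal.span (Set.range fun x : S => (1 : T) ⊗ₜ[R] x - s x ⊗ₜ[R] (1 : S)) := by
  induction b using TensorProduct.induction_on with
  | zero => simp
  | add a b ha hb =>
    rw [map_add, TensorProduct.add_tmul, add_sub_add_comm]
    exact add_mem ha hb
  | tmul t x =>
    have h : t ⊗ₜ[R] x - ev s (t ⊗ₜ[R] x) ⊗ₜ[R] 1 = (t ⊗ₜ[R] 1) * ((1 : T) ⊗ₜ[R] x - s x ⊗ₜ[R] 1) := by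
      simp [mul_sub]
    rw [h]
    exact Ideal.mul_mem_left _ _ (Ideal.subset_span ⟨x, rfl⟩)

theorem ker_ev_le {T : Type u} [CommRing T] [Algebra R T] (s : S →ₐ[R] T) {J : Ideal (T ⊗[R] S)}
    (h : ∀ x : S, (1 : T) ⊗ₜ[R] x - s x ⊗ₜ[R] (1 : S) ∈ J) : RingHom.ker (ev s) ≤ J := fun b hb => by
  have h1 := sub_mem_span s b
  rw [(show ev s b = 0 from hb), TensorProduct.zero_tmul, sub_zero] at h1
  exact Ideal.span_le.mpr (by rintro _ ⟨x, rfl⟩; exact h x) h1

theorem isCoprime_ker {T : Type u} [CommRing T] [Algebra R T] {m : ℕ} {s : Fin m → S →ₐ[R] T} (h : IsDisj s) :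
    Pairwise (Function.onFun IsCoprime fun i => RingHom.ker (ev (s i))) := by
  intro i j hij
  rw [Function.onFun, Ideal.isCoprime_iff_sup_eq, eq_top_iff]
  have h1 : Ideal.span (Set.range fun x => s i x - s j x) ≤
      (RingHom.ker (ev (s i)) ⊔ RingHom.ker (ev (s j))).comap
        (Algebra.TensorProduct.includeLeft : T →ₐ[R] T ⊗[R] S) := by
    rw [Ideal.span_le]
    rintro _ ⟨x, rfl⟩
    simp only [SetLike.mem_coe, Ideal.mem_comap, Algebra.TensorProduct.includeLeft_apply]
    have : (s i x - s j x) ⊗ₜ[R] (1 : S) =
        (s i x ⊗ₜ[R] 1 - (1 : T) ⊗ₜ[R] x) - (s j x ⊗ₜ[R] 1 - (1 : T) ⊗ₜ[R] x) := by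
      rw [TensorProduct.sub_tmul]; ring
    rw [this]
    exact sub_mem (Ideal.mem_sup_left (by simp)) (Ideal.mem_sup_right (by simp))
  rw [h i j hij] at h1
  intro b _
  have := h1 (Submodule.mem_top : (1 : T) ∈ ⊤)
  rw [Ideal.mem_comap, map_one] at this
  rw [(Ideal.eq_top_iff_one _).mpr this]
  exact Submodule.mem_top

/-- All evaluations at once. -/
noncomputable def evAll {T : Type u} [CommRing T] [Algebra R T] {m : ℕ} (s : Fin m → S →ₐ[R] T) :
    T ⊗[R] S →ₐ[T] (Fin m → T) :=
  Pi.algHom T (fun _ : Fin m => T) fun i => ev (s i)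

theorem evAll_surjective {T : Type u} [CommRing T] [Algebra R T] {m : ℕ} {s : Fin m → S →ₐ[R] T} (h : IsDisj s) :
    Function.Surjective (evAll s) := by
  intro y
  choose z hz using fun i => ev_surjective (s i) (y i)
  obtain ⟨b, hb⟩ := Ideal.exists_forall_sub_mem_ideal (isCoprime_ker h) z
  refine ⟨b, funext fun i => ?_⟩
  have := hb i
  rw [RingHom.mem_ker, map_sub, sub_eq_zero] at this
  exact this.trans (hz i)

theorem le_of_isDisj {T : Type u} [CommRing T] [Algebra R T] [Nontrivial T] {m : ℕ} {s : Fin m → S →ₐ[R] T}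
    (h : IsDisj s) {d : ℕ} (g : (Fin d → R) →ₗ[R] S) (hg : Function.Surjective g) : m ≤ d := by
  let G : (Fin d → T) →ₗ[T] T ⊗[R] S :=
    Fintype.linearCombination T fun i => (1 : T) ⊗ₜ[R] g (Pi.single i 1)
  have hG : Function.Surjective G := by
    rw [← LinearMap.range_eq_top, eq_top_iff]
    intro b _
    induction b using TensorProduct.induction_on with
    | zero => exact zero_mem _
    | add a b ha hb => exact add_mem (ha trivial) (hb trivial)
    | tmul t x =>
      obtain ⟨c, rfl⟩ := hg x
      refine ⟨fun i => algebraMap R T (c i) * t, ?_⟩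
      simp only [G, Fintype.linearCombination_apply]
      conv_rhs => rw [pi_eq_sum_univ c, map_sum, TensorProduct.tmul_sum]
      refine Finset.sum_congr rfl fun i _ => ?_
      rw [map_smul, TensorProduct.smul_tmul', smul_eq_mul, mul_one, TensorProduct.tmul_smul,
        TensorProduct.smul_tmul', Algebra.smul_def]
      congr 2
      ext j
      simp [Pi.single_apply, eq_comm]
  exact le_of_fin_surjective T ((evAll s).toLinearMap ∘ₗ G) ((evAll_surjective h).comp hG)

variable (R S) in
/-- A bound for the number of disjoint sections. -/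
def SectionBound (d : ℕ) : Prop :=
  ∀ (T : Type u) [CommRing T] [Algebra R T] [Nontrivial T] (m : ℕ) (s : Fin m → S →ₐ[R] T), IsDisj s → m ≤ d

theorem sectionBound_of_finite [Module.Finite R S] : ∃ d, SectionBound R S d := by
  obtain ⟨d, g, hg⟩ := Module.Finite.exists_fin' R S
  exact ⟨d, fun T _ _ _ m s h => le_of_isDisj h g hg⟩

theorem exists_pieces [Algebra.FinitePresentation R S] (k : ℕ) :
    ∀ (d : ℕ), SectionBound R S d →
    ∀ (A : Type u) [CommRing A] [Algebra R A] [Algebra.FinitePresentation R A] (n : ℕ) (s : Fin n → S →ₐ[R] A),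
      IsDisj s → d + 1 ≤ n + k → ∀ p : PrimeSpectrum A,
      ∃ (P : Piece R S) (φ : A →ₐ[R] P.T) (p' : PrimeSpectrum P.T),
        PrimeSpectrum.comap φ.toRingHom p' = p := by
  induction k with
  | zero =>
    intro d hbd A _ _ _ n s hs hn p
    haveI : Nontrivial A := PrimeSpectrum.nonempty_iff_nontrivial.mp ⟨p⟩
    have := hbd A n s hs
    omega
  | succ k ih =>
    intro d hbd A _ _ _ n s hs hn p
    haveI : Algebra.FinitePresentation A (A ⊗[R] S) := inferInstance
    haveI : Algebra.FinitePresentation A (Fin n → A) := by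
      haveI : Algebra.Etale A (Fin n → A) := inferInstance
      infer_instance
    haveI : Algebra.FinitePresentation R (A ⊗[R] S) := Algebra.FinitePresentation.trans R A _
    obtain ⟨K0, hK0⟩ := Algebra.FinitePresentation.ker_fG_of_surjective (evAll s) (evAll_surjective hs)
    have hkerle : ∀ i, ∀ c ∈ K0, ev (s i) c = 0 := fun i c hc => by
      have : c ∈ RingHom.ker (evAll s).toRingHom := hK0 ▸ Ideal.subset_span hc
      exact congrFun this i
    by_cases hE : ∃ c ∈ K0, p ∈ Set.range
        (PrimeSpectrum.comap (algebraMap A (Localization.Away c)))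
    · obtain ⟨c, hc, q, hq⟩ := hE
      haveI : Algebra.FinitePresentation (A ⊗[R] S) (Localization.Away c) :=
        IsLocalization.Away.finitePresentation (R := A ⊗[R] S) c
      haveI : Algebra.FinitePresentation R (Localization.Away c) :=
        Algebra.FinitePresentation.trans R (A ⊗[R] S) _
      let j : A ⊗[R] S →ₐ[R] Localization.Away c := IsScalarTower.toAlgHom R _ _
      let ι₁ : A →ₐ[R] Localization.Away c := j.comp Algebra.TensorProduct.includeLeft
      let s' : Fin (n + 1) → S →ₐ[R] Localization.Away c :=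
        Fin.snoc (fun i => ι₁.comp (s i)) (j.comp Algebra.TensorProduct.includeRight)
      have hnew : ∀ i : Fin n,
          Ideal.span (Set.range fun x => (ι₁.comp (s i)) x - (j.comp Algebra.TensorProduct.includeRight) x) = ⊤ := by
        intro i
        have h1 : RingHom.ker (ev (s i)) ≤ (Ideal.span (Set.range fun x =>
            (ι₁.comp (s i)) x - (j.comp Algebra.TensorProduct.includeRight) x)).comap j := by
          refine ker_ev_le _ fun x => ?_
          rw [Ideal.mem_comap, map_sub, ← neg_sub]
          exact neg_mem (Ideal.subset_span ⟨x, rfl⟩)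
        exact Ideal.eq_top_of_isUnit_mem _ (h1 (hkerle i c hc))
          (IsLocalization.Away.algebraMap_isUnit (S := Localization.Away c) c)
      have hs' : IsDisj s' := by
        intro a b hab
        induction a using Fin.lastCases with
        | last =>
          induction b using Fin.lastCases with
          | last => exact absurd rfl hab
          | cast b =>
            simp only [s', Fin.snoc_last, Fin.snoc_castSucc]
            refine (le_antisymm le_top ?_)
            rw [← hnew b, Ideal.span_le]
            rintro _ ⟨x, rfl⟩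
            simp only [SetLike.mem_coe]
            rw [← neg_sub]
            exact neg_mem (Ideal.subset_span ⟨x, rfl⟩)
        | cast a =>
          induction b using Fin.lastCases with
          | last => simpa only [s', Fin.snoc_last, Fin.snoc_castSucc] using hnew a
          | cast b =>
            simp only [s', Fin.snoc_castSucc]
            exact hs.map ι₁ a b (fun h => hab (by rw [h]))
      obtain ⟨P, φ, p', hp'⟩ := ih d hbd (Localization.Away c) (n + 1) s' hs' (by omega) q
      refine ⟨P, φ.comp ι₁, p', ?_⟩
      have : PrimeSpectrum.comap ι₁.toRingHom q = p := hq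
      rw [← this, ← hp']
      rfl
    · let E : Set (PrimeSpectrum A) :=
        ⋃ c ∈ K0, Set.range (PrimeSpectrum.comap (algebraMap A (Localization.Away c)))
      have hEc : Topology.IsConstructible Eᶜ := by
        refine (Topology.IsConstructible.biUnion K0.finite_toSet fun c _ => ?_).compl
        haveI : Algebra.FinitePresentation (A ⊗[R] S) (Localization.Away c) :=
          IsLocalization.Away.finitePresentation (R := A ⊗[R] S) c
        refine PrimeSpectrum.isConstructible_range_comap ?_
        rw [RingHom.finitePresentation_algebraMap]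
        exact Algebra.FinitePresentation.trans A (A ⊗[R] S) _
      obtain ⟨D, hD⟩ := PrimeSpectrum.exists_constructibleSetData_iff.mpr hEc
      have hp : p ∈ Eᶜ := by
        simpa [E] using hE
      rw [← hD] at hp
      obtain ⟨C, hC, hpC⟩ := Set.mem_iUnion₂.mp hp
      let I : Ideal A := Ideal.span (Set.range C.g)
      haveI : Algebra.FinitePresentation A (A ⧸ I) :=
        Algebra.FinitePresentation.quotient ⟨(Set.finite_range C.g).toFinset, by simp [I]⟩
      let T := Localization.Away (Ideal.Quotient.mk I C.f)
      haveI : Algebra.FinitePresentation (A ⧸ I) T := IsLocalization.Away.finitePresentation (Ideal.Quotient.mk I C.f)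
      haveI : Algebra.FinitePresentation A T := Algebra.FinitePresentation.trans A (A ⧸ I) T
      haveI : Algebra.FinitePresentation R T := Algebra.FinitePresentation.trans R A T
      let φ : A →ₐ[R] T := IsScalarTower.toAlgHom R A T
      have hrange : Set.range (PrimeSpectrum.comap φ.toRingHom) = C.toSet := by
        show Set.range (PrimeSpectrum.comap ((algebraMap (A ⧸ I) T).comp (Ideal.Quotient.mk I))) = _
        rw [PrimeSpectrum.comap_comp, Set.range_comp,
          PrimeSpectrum.localization_away_comap_range _ (Ideal.Quotient.mk I C.f), ← PrimeSpectrum.comap_basicOpen,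
          TopologicalSpace.Opens.coe_comap, ContinuousMap.coe_mk, Set.image_preimage_eq_inter_range,
          range_comap_of_surjective _ _ Ideal.Quotient.mk_surjective,
          PrimeSpectrum.BasicConstructibleSetData.toSet, Set.sdiff_eq_compl_inter,
          PrimeSpectrum.basicOpen_eq_zeroLocus_compl, Ideal.mk_ker, PrimeSpectrum.zeroLocus_span]
      let s' : Fin n → S →ₐ[R] T := fun i => φ.comp (s i)
      have hcov : IsCover s' := by
        intro q
        let m : A ⊗[R] S →ₐ[R] T ⊗[R] S := Algebra.TensorProduct.map φ (AlgHom.id R S)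
        let q0 : PrimeSpectrum (A ⊗[R] S) := PrimeSpectrum.comap m.toRingHom q
        let pT : PrimeSpectrum T := PrimeSpectrum.comap
          (Algebra.TensorProduct.includeLeft : T →ₐ[R] T ⊗[R] S).toRingHom q
        have hpA : PrimeSpectrum.comap φ.toRingHom pT ∈ Eᶜ := by
          rw [← hD]
          exact Set.mem_biUnion hC (hrange ▸ ⟨pT, rfl⟩)
        have hK : ∀ c ∈ K0, c ∈ q0.asIdeal := by
          intro c hc
          by_contra hcq
          apply hpA
          obtain ⟨r, hr⟩ : q0 ∈ Set.range (PrimeSpectrum.comap (algebraMap (A ⊗[R] S) (Localization.Away c))) := by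
            rw [PrimeSpectrum.localization_away_comap_range _ c]
            exact hcq
          refine Set.mem_biUnion hc ⟨r, ?_⟩
          rw [IsScalarTower.algebraMap_eq A (A ⊗[R] S) (Localization.Away c), PrimeSpectrum.comap_comp_apply, hr]
          apply PrimeSpectrum.ext
          ext a
          show m (algebraMap A (A ⊗[R] S) a) ∈ q.asIdeal ↔ φ a ⊗ₜ[R] (1 : S) ∈ q.asIdeal
          simp [m]
        have hinf : (Finset.univ.inf fun i => RingHom.ker (ev (s i))) ≤ q0.asIdeal := by
          intro b hb
          have : b ∈ RingHom.ker (evAll s).toRingHom := by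
            refine funext fun i => ?_
            exact Submodule.mem_finsetInf.mp hb i (Finset.mem_univ i)
          rw [← hK0] at this
          exact Ideal.span_le.mpr hK this
        obtain ⟨i, -, hi⟩ := (Ideal.IsPrime.inf_le' q0.isPrime).mp hinf
        refine ⟨i, ker_ev_le _ fun x => ?_⟩
        have := hi (show (1 : A) ⊗ₜ[R] x - s i x ⊗ₜ[R] 1 ∈ RingHom.ker (ev (s i)) by simp)
        change m _ ∈ q.asIdeal at this
        simpa [m, s'] using this
      obtain ⟨p', hp'⟩ : p ∈ Set.range (PrimeSpectrum.comap φ.toRingHom) := hrange ▸ hpC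
      exact ⟨{ T := T, m := n, s := s', disj := hs.map φ, cover := hcov }, φ, p', hp'⟩

theorem exists_piece_of_bound [Algebra.FinitePresentation R S] {d : ℕ} (hbd : SectionBound R S d)
    (p : PrimeSpectrum R) :
    ∃ (P : Piece R S) (p' : PrimeSpectrum P.T), PrimeSpectrum.comap (algebraMap R P.T) p' = p := by
  obtain ⟨P, φ, p', hp'⟩ := exists_pieces (d + 1) d hbd R 0 Fin.elim0 (fun i => i.elim0) (by omega) p
  refine ⟨P, p', ?_⟩
  rw [← hp']
  congr 1
  exact (φ.comp_algebraMap).symm

theorem exists_piece [Module.Finite R S] [Algebra.FinitePresentation R S] (p : PrimeSpectrum R) :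
    ∃ (P : Piece R S) (p' : PrimeSpectrum P.T), PrimeSpectrum.comap (algebraMap R P.T) p' = p := by
  obtain ⟨d, hd⟩ := sectionBound_of_finite (R := R) (S := S)
  exact exists_piece_of_bound hd p

end Groth.Agent.FinPushConsLib
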